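import Cfsg.Agent.Helper3.CoxExch

set_option autoImplicit false

namespace Cfsg.Agent.Helper3

open CoxeterSystem

variable {B W : Type*} [Group W]

theorem wprod_reverse (σ : B → W) (hsq : ∀ i, σ i * σ i = 1) (ω : List B) :
    wprod σ ω.reverse = (wprod σ ω)⁻¹ := by
  induction ω with
  | nil => simp [wprod_nil]
  | cons i ω ih =>
    rw [List.reverse_cons, wprod_append, wprod_singleton, wprod_cons, ih, mul_inv_rev,
      inv_eq_of_mul_eq_one_left (hsq i)]

/-- The Coxeter matrix of orders of products of two generators. -/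
noncomputable def ordMatrix (σ : B → W) (hsq : ∀ i, σ i * σ i = 1)
    (hinj : Function.Injective σ) : CoxeterMatrix B where
  M := Matrix.of fun i j => orderOf (σ i * σ j)
  isSymm := by
    ext i j
    simp only [Matrix.transpose_apply, Matrix.of_apply]
    have : σ j * σ i = MulAut.conj (σ i)⁻¹ (σ i * σ j) := by
      rw [MulAut.conj_apply]; group
    rw [this, MulEquiv.orderOf_eq]
  diagonal i := by
    simp only [Matrix.of_apply, hsq, orderOf_one]
  off_diagonal i j hij := by
    simp only [Matrix.of_apply]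
    intro h
    rw [orderOf_eq_one_iff] at h
    apply hij
    apply hinj
    calc σ i = σ i * (σ j * σ j) := by rw [hsq, mul_one]
      _ = (σ i * σ j) * σ j := by rw [mul_assoc]
      _ = σ j := by rw [h, one_mul]

theorem ordMatrix_apply (σ : B → W) (hsq : ∀ i, σ i * σ i = 1)
    (hinj : Function.Injective σ) (i j : B) :
    ordMatrix σ hsq hinj i j = orderOf (σ i * σ j) := rfl

/-- A group generated by involutions satisfying the exchange condition is a Coxeter system. -/
theorem coxeter_of_exchange (σ : B → W) (hsq : ∀ i, σ i * σ i = 1)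
    (hgen : Subgroup.closure (Set.range σ) = ⊤) (hinj : Function.Injective σ)
    (hex : ∀ (i : B) (ω : List B), WRed σ ω → ¬ WRed σ (i :: ω) →
      ∃ j < ω.length, wprod σ (i :: ω.eraseIdx j) = wprod σ ω) :
    ∃ cs : CoxeterSystem (ordMatrix σ hsq hinj) W, ∀ i, cs.simple i = σ i := by
  classical
  have hlift : (ordMatrix σ hsq hinj).IsLiftable σ := fun i j => pow_orderOf_eq_one _
  have hφ : ∀ i, (ordMatrix σ hsq hinj).toCoxeterSystem.lift ⟨σ, hlift⟩
      ((ordMatrix σ hsq hinj).simple i) = σ i :=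
    fun i => (ordMatrix σ hsq hinj).toCoxeterSystem.lift_apply_simple hlift i
  have hφw : ∀ ω : List B, (ordMatrix σ hsq hinj).toCoxeterSystem.lift ⟨σ, hlift⟩
      (wprod (ordMatrix σ hsq hinj).simple ω) = wprod σ ω := by
    intro ω
    induction ω with
    | nil => simp [wprod_nil]
    | cons i ω ih => rw [wprod_cons, wprod_cons, map_mul, hφ, ih]
  have hword : ∀ w : W, ∃ ω : List B, wprod σ ω = w := by
    intro w
    have hw : w ∈ Subgroup.closure (Set.range σ) := by rw [hgen]; trivial
    induction hw using Subgroup.closure_induction with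
    | mem x hx =>
      obtain ⟨i, rfl⟩ := hx
      exact ⟨[i], wprod_singleton σ i⟩
    | one => exact ⟨[], wprod_nil σ⟩
    | mul x y _ _ hx hy =>
      obtain ⟨ω, rfl⟩ := hx
      obtain ⟨ω', rfl⟩ := hy
      exact ⟨ω ++ ω', wprod_append σ ω ω'⟩
    | inv x _ hx =>
      obtain ⟨ω, rfl⟩ := hx
      exact ⟨ω.reverse, wprod_reverse σ hsq ω⟩
  have hred : ∀ w : W, ∃ ω : List B, wprod σ ω = w ∧ WRed σ ω := by
    intro w
    have hne : ∃ n, ∃ ω : List B, wprod σ ω = w ∧ ω.length = n := by
      obtain ⟨ω, h⟩ := hword w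
      exact ⟨ω.length, ω, h, rfl⟩
    obtain ⟨ω, hω, hlen⟩ := Nat.find_spec hne
    refine ⟨ω, hω, fun ω' h' => ?_⟩
    rw [hlen]
    exact Nat.find_min' hne ⟨ω', h'.trans hω, rfl⟩
  have hs2 : ∀ i, (ordMatrix σ hsq hinj).simple i * (ordMatrix σ hsq hinj).simple i = 1 :=
    fun i => (ordMatrix σ hsq hinj).toCoxeterSystem.simple_mul_simple_self i
  have hbraid : ∀ a b k, (σ a * σ b) ^ k = 1 →
      ((ordMatrix σ hsq hinj).simple a * (ordMatrix σ hsq hinj).simple b) ^ k = 1 := by
    intro a b k h
    obtain ⟨c, hc⟩ := orderOf_dvd_of_pow_eq_one h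
    have h1 : ((ordMatrix σ hsq hinj).simple a * (ordMatrix σ hsq hinj).simple b) ^
        (orderOf (σ a * σ b)) = 1 :=
      (ordMatrix σ hsq hinj).toCoxeterSystem.simple_mul_simple_pow a b
    rw [hc, pow_mul, h1, one_pow]
  have hmat := matsumoto σ hsq hex (ordMatrix σ hsq hinj).simple hs2 hbraid
  have hψ : ∀ ω, WRed σ ω → wprod (ordMatrix σ hsq hinj).simple
      (Classical.choose (hred (wprod σ ω))) = wprod (ordMatrix σ hsq hinj).simple ω := by
    intro ω hω
    obtain ⟨h1, h2⟩ := Classical.choose_spec (hred (wprod σ ω))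
    have hl : (Classical.choose (hred (wprod σ ω))).length = ω.length :=
      le_antisymm (h2 ω h1.symm) (hω _ h1)
    exact hmat _ _ _ hl rfl h2 h1
  have hψmul : ∀ i w, wprod (ordMatrix σ hsq hinj).simple (Classical.choose (hred (σ i * w))) =
      (ordMatrix σ hsq hinj).simple i *
        wprod (ordMatrix σ hsq hinj).simple (Classical.choose (hred w)) := by
    intro i w
    obtain ⟨ω, rfl, hω⟩ := hred w
    by_cases hr : WRed σ (i :: ω)
    · rw [← wprod_cons σ, hψ _ hr, hψ _ hω, wprod_cons]
    · obtain ⟨j, hj, hjπ⟩ := hex i ω hω hr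
      have h1 : σ i * wprod σ ω = wprod σ (ω.eraseIdx j) := by
        rw [← hjπ, wprod_cons, ← mul_assoc, hsq, one_mul]
      have hlen : (i :: ω.eraseIdx j).length = ω.length := by
        rw [List.length_cons, List.length_eraseIdx_of_lt hj]; omega
      have hr1 : WRed σ (i :: ω.eraseIdx j) := wred_of_eq hω hjπ hlen
      have hr2 : WRed σ (ω.eraseIdx j) := wred_tail hr1
      rw [h1, hψ _ hr2]
      have h2 := hψ _ hr1
      rw [hjπ] at h2
      rw [h2, wprod_cons, ← mul_assoc, hs2, one_mul]
  have hψφ : ∀ g : (ordMatrix σ hsq hinj).Group,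
      wprod (ordMatrix σ hsq hinj).simple (Classical.choose
        (hred ((ordMatrix σ hsq hinj).toCoxeterSystem.lift ⟨σ, hlift⟩ g))) = g := by
    intro g
    induction g using (ordMatrix σ hsq hinj).toCoxeterSystem.simple_induction_left with
    | one =>
      rw [map_one]
      have h0 : WRed σ ([] : List B) := by
        intro ω' _; simp
      have := hψ [] h0
      rw [wprod_nil] at this
      rw [this, wprod_nil]
    | mul_simple_left w i ih =>
      rw [map_mul]
      have : (ordMatrix σ hsq hinj).toCoxeterSystem.simple i = (ordMatrix σ hsq hinj).simple i := rfl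
      rw [this, hφ, hψmul, ih]
  have hφψ : ∀ w : W, (ordMatrix σ hsq hinj).toCoxeterSystem.lift ⟨σ, hlift⟩
      (wprod (ordMatrix σ hsq hinj).simple (Classical.choose (hred w))) = w := by
    intro w
    obtain ⟨h1, _⟩ := Classical.choose_spec (hred w)
    rw [hφw, h1]
  have hbij : Function.Bijective ((ordMatrix σ hsq hinj).toCoxeterSystem.lift ⟨σ, hlift⟩) := by
    refine ⟨fun a b h => ?_, fun w => ⟨_, hφψ w⟩⟩
    rw [← hψφ a, ← hψφ b, h]
  refine ⟨⟨(MulEquiv.ofBijective _ hbij).symm⟩, fun i => ?_⟩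
  exact hφ i

end Cfsg.Agent.Helper3
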