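import Mathlib

set_option autoImplicit false

namespace Cfsg.Agent.Helper3

open CoxeterSystem

variable {B W : Type*} [Group W]

/-- product of a word under `σ`. -/
def wprod {H : Type*} [Monoid H] (σ : B → H) (ω : List B) : H := (ω.map σ).prod

theorem wprod_nil {H : Type*} [Monoid H] (σ : B → H) : wprod σ [] = 1 := rfl

theorem wprod_cons {H : Type*} [Monoid H] (σ : B → H) (i : B) (ω : List B) :
    wprod σ (i :: ω) = σ i * wprod σ ω := by
  simp [wprod]

theorem wprod_append {H : Type*} [Monoid H] (σ : B → H) (ω ω' : List B) :
    wprod σ (ω ++ ω') = wprod σ ω * wprod σ ω' := by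
  simp [wprod]

theorem wprod_singleton {H : Type*} [Monoid H] (σ : B → H) (i : B) : wprod σ [i] = σ i := by
  simp [wprod]

/-- reduced words -/
def WRed (σ : B → W) (ω : List B) : Prop :=
  ∀ ω' : List B, wprod σ ω' = wprod σ ω → ω.length ≤ ω'.length

theorem wred_tail {σ : B → W} {i : B} {ω : List B} (h : WRed σ (i :: ω)) : WRed σ ω := by
  intro ω' h'
  have := h (i :: ω') (by rw [wprod_cons, wprod_cons, h'])
  simpa using this

theorem wred_init {σ : B → W} {i : B} {ω : List B} (h : WRed σ (ω ++ [i])) : WRed σ ω := by
  intro ω' h'
  have := h (ω' ++ [i]) (by rw [wprod_append, wprod_append, h'])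
  simpa using this

theorem wred_of_eq {σ : B → W} {ω υ : List B} (h : WRed σ ω) (hπ : wprod σ υ = wprod σ ω)
    (hl : υ.length = ω.length) : WRed σ υ := by
  intro ω' h'
  rw [hl]
  exact h ω' (h'.trans hπ)

theorem conj_pow_aux {H : Type*} [Group H] (x y : H) (k : ℕ) :
    y * (x * y) ^ k = (y * x) ^ k * y := by
  induction k with
  | zero => simp
  | succ k ih =>
    rw [pow_succ, pow_succ, ← mul_assoc, ih]
    group

theorem alt_prod_aux {H : Type*} [Group H] (f : B → H) (a b : B)
    (ha : f a * f a = 1) (hb : f b * f b = 1) (k : ℕ) :
    wprod f (alternatingWord a b k) * (wprod f (alternatingWord b a k))⁻¹ =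
      if Even k then (f a * f b) ^ k else (f b * f a) ^ k := by
  have hai : (f a)⁻¹ = f a := inv_eq_of_mul_eq_one_left ha
  have hbi : (f b)⁻¹ = f b := inv_eq_of_mul_eq_one_left hb
  induction k with
  | zero => simp [alternatingWord, wprod_nil]
  | succ k ih =>
    rw [alternatingWord_succ' a b k, alternatingWord_succ' b a k, wprod_cons, wprod_cons]
    by_cases hk : Even k
    · have hk1 : ¬ Even (k + 1) := by
        rw [Nat.even_add_one]; exact not_not.2 hk
      rw [if_pos hk] at ih
      rw [if_pos hk, if_pos hk, if_neg hk1]
      have e : f b * wprod f (alternatingWord a b k) * (f a * wprod f (alternatingWord b a k))⁻¹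
          = f b * (wprod f (alternatingWord a b k) * (wprod f (alternatingWord b a k))⁻¹) * (f a)⁻¹ := by
        group
      rw [e, ih, hai, conj_pow_aux, pow_succ]
      group
    · have hk1 : Even (k + 1) := by
        rw [Nat.even_add_one]; exact hk
      rw [if_neg hk] at ih
      rw [if_neg hk, if_neg hk, if_pos hk1]
      have e : f a * wprod f (alternatingWord a b k) * (f b * wprod f (alternatingWord b a k))⁻¹
          = f a * (wprod f (alternatingWord a b k) * (wprod f (alternatingWord b a k))⁻¹) * (f b)⁻¹ := by
        group
      rw [e, ih, hbi, conj_pow_aux, pow_succ]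
      group

theorem alt_prod_iff {H : Type*} [Group H] (f : B → H) (a b : B)
    (ha : f a * f a = 1) (hb : f b * f b = 1) (k : ℕ) :
    wprod f (alternatingWord a b k) = wprod f (alternatingWord b a k) ↔ (f a * f b) ^ k = 1 := by
  rw [← mul_inv_eq_one, alt_prod_aux f a b ha hb k]
  by_cases hk : Even k
  · rw [if_pos hk]
  · rw [if_neg hk]
    have h := conj_pow_aux (f a) (f b) k
    constructor
    · intro h1
      exact mul_left_cancel (by rw [h, h1, one_mul, mul_one] : f b * (f a * f b) ^ k = f b * 1)
    · intro h1
      exact mul_right_cancel (by rw [← h, h1, mul_one, one_mul] : (f b * f a) ^ k * f b = 1 * f b)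

section Matsumoto

variable (σ : B → W) (hsq : ∀ i, σ i * σ i = 1)
  (hex : ∀ (i : B) (ω : List B), WRed σ ω → ¬ WRed σ (i :: ω) →
    ∃ j < ω.length, wprod σ (i :: ω.eraseIdx j) = wprod σ ω)
  {H : Type*} [Group H] (f : B → H) (hfsq : ∀ i, f i * f i = 1)
  (hbraid : ∀ a b k, (σ a * σ b) ^ k = 1 → (f a * f b) ^ k = 1)

include hsq hex hfsq hbraid in
theorem matsumoto : ∀ (q : ℕ) (ω ω' : List B), ω.length = q → ω'.length = q → WRed σ ω →
    wprod σ ω = wprod σ ω' → wprod f ω = wprod f ω' := by
  intro q
  induction q using Nat.strong_induction_on with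
  | _ q IH =>
  -- same head
  have hA : ∀ (i : B) (τ τ' : List B), (i :: τ).length = q → (i :: τ').length = q →
      WRed σ (i :: τ) → wprod σ (i :: τ) = wprod σ (i :: τ') →
      wprod f (i :: τ) = wprod f (i :: τ') := by
    intro i τ τ' hl hl' hr hπ
    rw [wprod_cons, wprod_cons]
    congr 1
    rw [wprod_cons, wprod_cons] at hπ
    exact IH τ.length (by simp at hl; omega) τ τ' rfl (by simp at hl hl'; omega) (wred_tail hr)
      (mul_left_cancel hπ)
  -- same last
  have hA' : ∀ (i : B) (τ τ' : List B), (τ ++ [i]).length = q → (τ' ++ [i]).length = q →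
      WRed σ (τ ++ [i]) → wprod σ (τ ++ [i]) = wprod σ (τ' ++ [i]) →
      wprod f (τ ++ [i]) = wprod f (τ' ++ [i]) := by
    intro i τ τ' hl hl' hr hπ
    rw [wprod_append, wprod_append]
    congr 1
    rw [wprod_append, wprod_append] at hπ
    exact IH τ.length (by simp at hl; omega) τ τ' rfl (by simp at hl hl'; omega) (wred_init hr)
      (mul_right_cancel hπ)
  -- the key lemma
  have hL : ∀ (u : List B) (c : B) (v' : List B), u.length = q → (c :: v').length = q →
      WRed σ u → wprod σ u = wprod σ (c :: v') → wprod f u ≠ wprod f (c :: v') →
      (wprod σ (c :: u.dropLast) = wprod σ u ∧ wprod f (c :: u.dropLast) ≠ wprod f u) := by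
    intro u c v' hl hl' hr hπ hne
    have hnr : ¬ WRed σ (c :: u) := by
      intro h
      have h1 := h v' (by
        rw [wprod_cons, hπ, wprod_cons, ← mul_assoc, hsq, one_mul])
      simp at h1 hl'
      omega
    obtain ⟨j, hj, hjπ⟩ := hex c u hr hnr
    have hlen : (c :: u.eraseIdx j).length = q := by
      rw [List.length_cons, List.length_eraseIdx_of_lt hj]; omega
    have hred2 : WRed σ (c :: u.eraseIdx j) := wred_of_eq hr hjπ (by rw [hlen, hl])
    have h1 : wprod f (c :: u.eraseIdx j) = wprod f (c :: v') :=
      hA c _ v' hlen hl' hred2 (hjπ.trans hπ)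
    rcases List.eq_nil_or_concat u with hu | ⟨u₀, z, hu⟩
    · subst hu; simp at hj
    · rw [List.concat_eq_append] at hu
      subst hu
      by_cases hj2 : j < u₀.length
      · exfalso
        rw [List.eraseIdx_append_of_lt_length hj2] at hjπ h1 hlen hred2
        have h2 := hA' z u₀ (c :: u₀.eraseIdx j) hl (by simpa using hlen) hr (by simpa using hjπ.symm)
        apply hne
        rw [h2]
        simpa using h1
      · have hj3 : j + 1 = (u₀ ++ [z]).length := by
          simp at hj ⊢; omega
        rw [List.eraseIdx_eq_dropLast hj3] at hjπ h1
        exact ⟨hjπ, fun h => hne (h.symm.trans h1)⟩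
  intro ω ω' hl hl' hr hπ
  by_contra hne
  match ω, ω', hl, hl', hr, hπ, hne with
  | [], [], _, _, _, _, hne => exact hne rfl
  | [], b :: τ', hl, hl', _, _, _ => simp at hl hl'; omega
  | a :: τ, [], hl, hl', _, _, _ => simp at hl hl'; omega
  | a :: τ, b :: τ', hl, hl', hr, hπ, hne =>
    have hq : 1 ≤ q := by simp at hl; omega
    -- the sequence of words
    have key : ∀ k, k + 1 ≤ q →
        wprod σ (alternatingWord a b k ++ (a :: τ).take (q - k)) = wprod σ (a :: τ) ∧
        wprod σ (alternatingWord a b (k + 1) ++ (a :: τ).take (q - (k + 1))) = wprod σ (a :: τ) ∧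
        wprod f (alternatingWord a b (k + 1) ++ (a :: τ).take (q - (k + 1))) ≠
          wprod f (alternatingWord a b k ++ (a :: τ).take (q - k)) := by
      intro k
      induction k with
      | zero =>
        intro _
        have e0 : alternatingWord a b 0 ++ (a :: τ).take (q - 0) = a :: τ := by
          simp [alternatingWord, ← hl]
        have e1 : alternatingWord a b (0 + 1) ++ (a :: τ).take (q - (0 + 1)) = b :: (a :: τ).dropLast := by
          rw [List.dropLast_eq_take, hl]
          simp [alternatingWord]
        rw [e0, e1]
        obtain ⟨h1, h2⟩ := hL (a :: τ) b τ' hl hl' hr hπ hne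
        exact ⟨rfl, h1, h2⟩
      | succ k ih =>
        intro hk
        obtain ⟨h0, h1, h2⟩ := ih (by omega)
        refine ⟨h1, ?_⟩
        -- apply hL with u = Ω (k+1), v = Ω k
        have hlenu : (alternatingWord a b (k + 1) ++ (a :: τ).take (q - (k + 1))).length = q := by
          rw [List.length_append, length_alternatingWord, List.length_take, hl]; omega
        have hredu : WRed σ (alternatingWord a b (k + 1) ++ (a :: τ).take (q - (k + 1))) :=
          wred_of_eq hr h1 (by rw [hlenu, hl])
        have hv : ∃ v', alternatingWord a b k ++ (a :: τ).take (q - k) =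
            (if Even k then a else b) :: v' := by
          rcases k with _ | k
          · refine ⟨τ.take (q - 1), ?_⟩
            have take_cons : ∀ (n : ℕ), 1 ≤ n → List.take n (a :: τ) = a :: List.take (n - 1) τ := by
              intro n hn
              cases n with
              | zero => omega
              | succ n => simp
            simp [alternatingWord, take_cons q hq]
          · refine ⟨alternatingWord a b k ++ (a :: τ).take (q - (k + 1)), ?_⟩
            rw [alternatingWord_succ' a b k]
            have : (if Even k then b else a) = (if Even (k + 1) then a else b) := by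
              by_cases h : Even k
              · have : ¬ Even (k + 1) := by rw [Nat.even_add_one]; exact not_not.2 h
                simp [h, this]
              · have : Even (k + 1) := by rw [Nat.even_add_one]; exact h
                simp [h, this]
            rw [this]
            rfl
        obtain ⟨v', hv'⟩ := hv
        have hlenv : ((if Even k then a else b) :: v').length = q := by
          rw [← hv', List.length_append, length_alternatingWord, List.length_take, hl]; omega
        rw [hv'] at h0 h2
        obtain ⟨g1, g2⟩ := hL _ (if Even k then a else b) v' hlenu hlenv hredu (h1.trans h0.symm) h2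
        have e : (if Even k then a else b) ::
            (alternatingWord a b (k + 1) ++ (a :: τ).take (q - (k + 1))).dropLast =
            alternatingWord a b (k + 1 + 1) ++ (a :: τ).take (q - (k + 1 + 1)) := by
          have hne' : (a :: τ).take (q - (k + 1)) ≠ [] := by
            intro h
            have := congrArg List.length h
            rw [List.length_take, hl] at this
            simp at this
            omega
          rw [List.dropLast_append_of_ne_nil hne', List.dropLast_take (by rw [hl]; omega),
            alternatingWord_succ' a b (k + 1)]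
          have : (if Even (k + 1) then b else a) = (if Even k then a else b) := by
            by_cases h : Even k
            · have : ¬ Even (k + 1) := by rw [Nat.even_add_one]; exact not_not.2 h
              simp [h, this]
            · have : Even (k + 1) := by rw [Nat.even_add_one]; exact h
              simp [h, this]
          rw [this]
          have : q - (k + 1) - 1 = q - (k + 1 + 1) := by omega
          rw [this]
          rfl
        rw [e] at g1 g2
        exact ⟨g1.trans h1, g2⟩
    obtain ⟨h0, h1, h2⟩ := key (q - 1) (by omega)
    have e1 : alternatingWord a b (q - 1 + 1) ++ (a :: τ).take (q - (q - 1 + 1)) =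
        alternatingWord a b q := by
      have : q - 1 + 1 = q := by omega
      rw [this]; simp
    have e0 : alternatingWord a b (q - 1) ++ (a :: τ).take (q - (q - 1)) = alternatingWord b a q := by
      have h1 : q - (q - 1) = 1 := by omega
      rw [h1]
      have h2 : alternatingWord b a q = alternatingWord b a (q - 1 + 1) := by
        congr 1; omega
      rw [h2, alternatingWord_succ, List.concat_eq_append]
      simp
    rw [e1] at h1 h2
    rw [e0] at h0 h2
    have h3 := (alt_prod_iff σ a b (hsq a) (hsq b) q).1 (h1.trans h0.symm)
    exact h2 ((alt_prod_iff f a b (hfsq a) (hfsq b) q).2 (hbraid a b q h3))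

end Matsumoto

end Cfsg.Agent.Helper3
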