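import Mathlib
import Cfsg.Agent.Helper15.SympBasis

set_option autoImplicit false

open Matrix

namespace Cfsg.Agent.Helper3

theorem alt_to_symp {F : Type*} [Field F] {m : ℕ}
    (A M : Matrix (Fin m ⊕ Fin m) (Fin m ⊕ Fin m) F)
    (halt : ∀ v, v ⬝ᵥ M *ᵥ v = 0) (hdet : M.det ≠ 0) (hA : Aᵀ * M * A = M) :
    ∃ B : Matrix.symplecticGroup (Fin m) F, ∀ k,
      (((B : Matrix (Fin m ⊕ Fin m) (Fin m ⊕ Fin m) F) - 1) ^ k).rank =
        ((A - 1) ^ k).rank := by
  classical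
  have hfin : Module.finrank F (Fin m ⊕ Fin m → F) = 2 * m := by
    rw [Module.finrank_fintype_fun_eq_card, Fintype.card_sum, Fintype.card_fin]
    ring
  obtain ⟨e, he⟩ := Cfsg.Agent.Helper15.exists_symp_equiv (n := m) (Matrix.toBilin' M)
    (fun x => by rw [Matrix.toBilin'_apply']; exact halt x)
    (fun x hx => by
      apply Matrix.eq_zero_of_vecMul_eq_zero hdet
      funext j
      have h := hx (Pi.single j 1)
      rw [Matrix.toBilin'_apply', Matrix.dotProduct_mulVec] at h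
      simpa using h)
    hfin
  obtain ⟨C, hC⟩ : ∃ C : Matrix (Fin m ⊕ Fin m) (Fin m ⊕ Fin m) F,
      C = LinearMap.toMatrix' (e : (Fin m ⊕ Fin m → F) →ₗ[F] (Fin m ⊕ Fin m → F)) := ⟨_, rfl⟩
  obtain ⟨C', hC'⟩ : ∃ C' : Matrix (Fin m ⊕ Fin m) (Fin m ⊕ Fin m) F,
      C' = LinearMap.toMatrix' (e.symm : (Fin m ⊕ Fin m → F) →ₗ[F] (Fin m ⊕ Fin m → F)) :=
    ⟨_, rfl⟩
  have hCe : ∀ v, C *ᵥ v = e v := fun v => by
    rw [hC, LinearMap.toMatrix'_mulVec]
    rfl
  have hCC' : C * C' = 1 := by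
    rw [hC, hC', ← LinearMap.toMatrix'_comp, ← LinearMap.toMatrix'_id]
    congr 1
    ext v : 1
    simp
  have hC'C : C' * C = 1 := mul_eq_one_comm.mp hCC'
  have hM : M = Cᵀ * J (Fin m) F * C := by
    apply Matrix.toBilin'.injective
    refine LinearMap.ext₂ (fun v w => ?_)
    have h1 := he v w
    rw [Matrix.toBilin'_apply'] at h1
    have h2 : v ⬝ᵥ (Cᵀ * J (Fin m) F * C) *ᵥ w = (C *ᵥ v) ⬝ᵥ J (Fin m) F *ᵥ (C *ᵥ w) := by
      rw [← Matrix.mulVec_mulVec, ← Matrix.mulVec_mulVec, Matrix.dotProduct_mulVec v Cᵀ,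
        Matrix.vecMul_transpose]
    rw [Matrix.toBilin'_apply', Matrix.toBilin'_apply', h1, h2, hCe v, hCe w]
  obtain ⟨B, hBdef⟩ : ∃ B : Matrix (Fin m ⊕ Fin m) (Fin m ⊕ Fin m) F, B = C * A * C' :=
    ⟨_, rfl⟩
  have hB : Bᵀ * J (Fin m) F * B = J (Fin m) F := by
    rw [hBdef, Matrix.transpose_mul, Matrix.transpose_mul]
    have h1 : C'ᵀ * (Aᵀ * Cᵀ) * J (Fin m) F * (C * A * C') =
        C'ᵀ * (Aᵀ * (Cᵀ * J (Fin m) F * C) * A) * C' := by
      simp only [Matrix.mul_assoc]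
    rw [h1, ← hM, hA, hM]
    have h2 : C'ᵀ * (Cᵀ * J (Fin m) F * C) * C' =
        (C * C')ᵀ * J (Fin m) F * (C * C') := by
      rw [Matrix.transpose_mul]
      simp only [Matrix.mul_assoc]
    rw [h2, hCC', Matrix.transpose_one, Matrix.one_mul, Matrix.mul_one]
  have hB1 : B - 1 = C * (A - 1) * C' := by
    rw [hBdef, Matrix.mul_sub, Matrix.sub_mul, Matrix.mul_one, hCC']
  have hpow : ∀ k, (B - 1) ^ k = C * (A - 1) ^ k * C' := by
    intro k
    induction k with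
    | zero => simp [hCC']
    | succ k ih =>
      rw [pow_succ, ih, pow_succ, hB1]
      calc C * (A - 1) ^ k * C' * (C * (A - 1) * C')
          = C * (A - 1) ^ k * (C' * C) * (A - 1) * C' := by simp only [Matrix.mul_assoc]
        _ = _ := by
            rw [hC'C, Matrix.mul_one]
            simp only [Matrix.mul_assoc]
  have hdC : IsUnit C.det := Matrix.isUnit_det_of_left_inverse hC'C
  have hdC' : IsUnit C'.det := Matrix.isUnit_det_of_left_inverse hCC'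
  refine ⟨⟨B, SymplecticGroup.mem_iff'.mpr hB⟩, fun k => ?_⟩
  show ((B - 1) ^ k).rank = _
  rw [hpow k, Matrix.rank_mul_eq_left_of_isUnit_det C' _ hdC',
    Matrix.rank_mul_eq_right_of_isUnit_det C _ hdC]

end Cfsg.Agent.Helper3
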