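import Mathlib
import Cfsg.Agent.Helper3.NilAlt
import Cfsg.Agent.Helper13.NilAlt

set_option autoImplicit false

namespace Cfsg.Agent.Helper3

/-- A finite nilpotent subgroup of order `3 * 2 ^ w` is generated by a subgroup of order
`2 ^ w` and a commuting element of order `3`. -/
theorem nat3_split {G : Type} [Group G] (N : Subgroup G) [Finite N]
    (hN : Group.IsNilpotent N) (w : ℕ) (hcard : Nat.card N = 3 * 2 ^ w) :
    ∃ (z : G) (T : Subgroup G), orderOf z = 3 ∧ Nat.card T = 2 ^ w ∧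
      (∀ t ∈ T, t * z = z * t) ∧ N = T ⊔ Subgroup.zpowers z := by
  classical
  obtain ⟨P⟩ : Nonempty (Sylow 2 ↥N) := inferInstance
  obtain ⟨Q, hQodd, hcomm, hNcard⟩ := nil_two_complement hN P
  obtain ⟨k, hk⟩ := (IsPGroup.iff_card).mp P.isPGroup'
  have hPQ : 2 ^ k * Nat.card ↥Q = 3 * 2 ^ w := by
    rw [← hk, ← hcard]
    exact hNcard.symm
  have hkv : k = w := by
    rcases lt_trichotomy k w with hlt | heq | hgt
    · exfalso
      obtain ⟨d, rfl⟩ : ∃ d, w = k + (d + 1) := ⟨w - k - 1, by omega⟩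
      have h2k : 0 < 2 ^ k := by positivity
      have hq : Nat.card ↥Q = 2 * (3 * 2 ^ d) := by
        apply Nat.eq_of_mul_eq_mul_left h2k
        rw [hPQ, pow_add, pow_succ]
        ring
      rw [hq] at hQodd
      exact (Nat.not_even_iff_odd.mpr hQodd) ⟨3 * 2 ^ d, by ring⟩
    · exact heq
    · exfalso
      obtain ⟨d, rfl⟩ : ∃ d, k = w + (d + 1) := ⟨k - w - 1, by omega⟩
      have h2v : 0 < 2 ^ w := by positivity
      have hq : 2 * (2 ^ d * Nat.card ↥Q) = 3 := by
        apply Nat.eq_of_mul_eq_mul_left h2v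
        rw [mul_comm (2 ^ w) 3, ← hPQ, pow_add, pow_succ]
        ring
      omega
  rw [hkv] at hPQ hk
  have hQ3 : Nat.card ↥Q = 3 := by
    have h2v : 0 < 2 ^ w := by positivity
    apply Nat.eq_of_mul_eq_mul_left h2v
    rw [hPQ]
    ring
  obtain ⟨z', hz'Q, hz'1⟩ : ∃ z' ∈ Q, z' ≠ 1 := by
    by_contra hcon
    have hbot : Q = ⊥ := (Subgroup.eq_bot_iff_forall Q).mpr
      (fun y hy => not_not.mp (fun hne => hcon ⟨y, hy, hne⟩))
    rw [hbot, Subgroup.card_bot] at hQ3
    omega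
  have hz'ord : orderOf z' = 3 := by
    have hdvd : orderOf z' ∣ 3 := by
      have h := orderOf_dvd_natCard (⟨z', hz'Q⟩ : ↥Q)
      rwa [Subgroup.orderOf_mk, hQ3] at h
    rcases (Nat.dvd_prime Nat.prime_three).mp hdvd with h1 | h3
    · exact absurd (orderOf_eq_one_iff.mp h1) hz'1
    · exact h3
  obtain ⟨z, hz⟩ : ∃ z : G, z = (z' : G) := ⟨_, rfl⟩
  have hzN : z ∈ N := by
    rw [hz]
    exact z'.2
  have hzord : orderOf z = 3 := by
    rw [hz, Subgroup.orderOf_coe, hz'ord]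
  obtain ⟨T, hT⟩ : ∃ T : Subgroup G, T = (P : Subgroup ↥N).map N.subtype := ⟨_, rfl⟩
  have hTcard : Nat.card ↥T = 2 ^ w := by
    rw [hT, Subgroup.card_map_of_injective N.subtype_injective]
    exact hk
  have hTN : T ≤ N := by
    rw [hT]
    exact Subgroup.map_subtype_le _
  have hTz : ∀ t ∈ T, t * z = z * t := by
    intro t ht
    rw [hT] at ht
    obtain ⟨p, hp, rfl⟩ := Subgroup.mem_map.mp ht
    have h := hcomm p hp z' hz'Q
    rw [hz]
    exact congrArg N.subtype h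
  have hzpN : Subgroup.zpowers z ≤ N := Subgroup.zpowers_le.mpr hzN
  have hsup : N = T ⊔ Subgroup.zpowers z := by
    symm
    apply Subgroup.eq_of_le_of_card_ge (sup_le hTN hzpN)
    have hd1 : Nat.card ↥T ∣ Nat.card ↥(T ⊔ Subgroup.zpowers z) :=
      Subgroup.card_dvd_of_le le_sup_left
    have hd2 : Nat.card ↥(Subgroup.zpowers z) ∣ Nat.card ↥(T ⊔ Subgroup.zpowers z) :=
      Subgroup.card_dvd_of_le le_sup_right
    rw [Nat.card_zpowers, hzord] at hd2
    rw [hTcard] at hd1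
    have hcop : Nat.Coprime 3 (2 ^ w) := Nat.Coprime.pow_right w (by norm_num)
    have hd := hcop.mul_dvd_of_dvd_of_dvd hd2 hd1
    rw [hcard]
    haveI : Finite ↥(T ⊔ Subgroup.zpowers z) :=
      Finite.of_injective (Subgroup.inclusion (sup_le hTN hzpN))
        (Subgroup.inclusion_injective _)
    exact Nat.le_of_dvd Nat.card_pos hd
  exact ⟨z, T, hzord, hTcard, hTz, hsup⟩

/-- A permutation of order `3` of `Fin n` (`n % 4 = 3`) whose centralizer has order divisible
by `2 ^ v_2((n-3)!)` is a `3`-cycle. -/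
theorem nat3_cycleType (n : ℕ) (hn : n % 4 = 3) (zp : Equiv.Perm (Fin n))
    (hzpord : orderOf zp = 3)
    (hdvd : 2 ^ ((n - 3).factorial.factorization 2) ∣
      Nat.card ↥(Subgroup.centralizer ({zp} : Set (Equiv.Perm (Fin n))))) :
    zp.cycleType = {3} := by
  classical
  obtain ⟨v, hv⟩ : ∃ v, v = (n - 3).factorial.factorization 2 := ⟨_, rfl⟩
  rw [← hv] at hdvd
  obtain ⟨j, hj⟩ := Equiv.Perm.cycleType_prime_order (σ := zp)
    (by rw [hzpord]; exact Nat.prime_three)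
  rw [hzpord] at hj
  have hj0 : j = 0 := by
    by_contra hjne
    have hle := Equiv.Perm.sum_cycleType_le zp
    rw [hj, Multiset.sum_replicate, smul_eq_mul, Fintype.card_fin] at hle
    have hfin : (Multiset.replicate (j + 1) 3).toFinset = ({3} : Finset ℕ) := by
      ext m
      rw [Multiset.mem_toFinset, Multiset.mem_replicate, Finset.mem_singleton]
      exact ⟨fun h => h.2, fun h => ⟨Nat.succ_ne_zero j, h⟩⟩
    rw [Equiv.Perm.nat_card_centralizer, hj, Multiset.sum_replicate, Multiset.prod_replicate,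
      hfin, Finset.prod_singleton,
      Multiset.count_replicate_self, Fintype.card_fin, smul_eq_mul, mul_right_comm] at hdvd
    have hd' : 2 ^ v ∣ (n - (j + 1) * 3).factorial * (j + 1).factorial :=
      Nat.Coprime.dvd_of_dvd_mul_right
        (Nat.Coprime.pow v (j + 1) (by norm_num : Nat.Coprime 2 3)) hdvd
    have hd4 : 2 ^ v ∣ (n - 4).factorial :=
      (hd'.trans (Nat.factorial_mul_factorial_dvd_factorial_add _ _)).trans
        (Nat.factorial_dvd_factorial (by omega))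
    have hu : v ≤ (n - 4).factorial.factorization 2 :=
      (Nat.Prime.pow_dvd_iff_le_factorization Nat.prime_two (Nat.factorial_ne_zero _)).mp hd4
    have hv2 : (n - 4).factorial.factorization 2 + 2 ≤ v := by
      rw [hv, ← Nat.Prime.pow_dvd_iff_le_factorization Nat.prime_two (Nat.factorial_ne_zero _),
        show n - 3 = (n - 4) + 1 by omega, Nat.factorial_succ, pow_add, mul_comm]
      apply Nat.mul_dvd_mul
      · have h4 : (4 : ℕ) ∣ n - 4 + 1 := by omega
        exact h4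
      · exact Nat.ordProj_dvd _ 2
    omega
  rw [hj, hj0]
  rfl

/-- Structure of a nilpotent subgroup of `A_n` (`n % 4 = 3`, `n ≥ 7`) of order
`3 * 2 ^ (v_2((n-3)!) - 1)`. -/
theorem alt_nil_three_structure (n : ℕ) (hn : n % 4 = 3) (h7 : 7 ≤ n)
    (N : Subgroup (alternatingGroup (Fin n))) (hN : Group.IsNilpotent N)
    (hcard : Nat.card N = 3 * 2 ^ ((n - 3).factorial.factorization 2 - 1)) :
    ∃ (z : alternatingGroup (Fin n)) (T : Subgroup (alternatingGroup (Fin n))),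
      (z : Equiv.Perm (Fin n)).cycleType = {3} ∧
      Nat.card T = 2 ^ ((n - 3).factorial.factorization 2 - 1) ∧
      (∀ t ∈ T, t * z = z * t) ∧ N = T ⊔ Subgroup.zpowers z := by
  classical
  obtain ⟨z, T, hzord, hTcard, hTz, hsup⟩ := nat3_split N hN _ hcard
  refine ⟨z, T, ?_, hTcard, hTz, hsup⟩
  obtain ⟨v, hv⟩ : ∃ v, v = (n - 3).factorial.factorization 2 := ⟨_, rfl⟩
  rw [← hv] at hTcard
  have hv2 : 2 ≤ v := by
    rw [hv, ← Nat.Prime.pow_dvd_iff_le_factorization Nat.prime_two (Nat.factorial_ne_zero _)]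
    exact (by decide : 2 ^ 2 ∣ Nat.factorial 4).trans (Nat.factorial_dvd_factorial (by omega))
  obtain ⟨zp, hzp⟩ : ∃ zp : Equiv.Perm (Fin n), zp = (z : Equiv.Perm (Fin n)) := ⟨_, rfl⟩
  rw [← hzp]
  have hzpord : orderOf zp = 3 := by
    rw [hzp, Subgroup.orderOf_coe, hzord]
  have hTzp : ∀ t ∈ T, (t : Equiv.Perm (Fin n)) * zp = zp * (t : Equiv.Perm (Fin n)) := by
    intro t ht
    rw [hzp]
    exact congrArg (alternatingGroup (Fin n)).subtype (hTz t ht)
  haveI : Fact (Nat.Prime 2) := ⟨Nat.prime_two⟩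
  have h2T : 2 ∣ Nat.card ↥T := by
    rw [hTcard]
    exact dvd_pow_self 2 (by omega)
  obtain ⟨x0, hx0⟩ := exists_prime_orderOf_dvd_card' 2 h2T
  obtain ⟨x, hx⟩ : ∃ x : Equiv.Perm (Fin n),
      x = ((x0 : alternatingGroup (Fin n)) : Equiv.Perm (Fin n)) := ⟨_, rfl⟩
  have hxord : orderOf x = 2 := by
    rw [hx, Subgroup.orderOf_coe, Subgroup.orderOf_coe, hx0]
  have hx1 : x ≠ 1 := by
    intro h
    rw [h, orderOf_one] at hxord
    omega
  have hx2 : x * x = 1 := by
    rw [← pow_two, ← hxord]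
    exact pow_orderOf_eq_one x
  have hxzp : Commute x zp := by
    rw [hx]
    exact hTzp x0 x0.2
  have hxQ : ∀ q ∈ Subgroup.zpowers zp, x * q = q * x := by
    intro q hq
    obtain ⟨i, rfl⟩ := Subgroup.mem_zpowers_iff.mp hq
    exact (hxzp.zpow_right i).eq
  have hQodd : Odd (Nat.card ↥(Subgroup.zpowers zp)) := by
    rw [Nat.card_zpowers, hzpord]
    exact ⟨1, rfl⟩
  obtain ⟨t, htQ, htsign⟩ := Cfsg.Agent.Helper13.exists_odd_perm_commuting
    (Subgroup.zpowers zp) hQodd x hx1 hx2 hxQ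
  obtain ⟨C, hC⟩ : ∃ C : Subgroup (Equiv.Perm (Fin n)),
      C = Subgroup.centralizer ({zp} : Set (Equiv.Perm (Fin n))) := ⟨_, rfl⟩
  have hmemC : ∀ g : Equiv.Perm (Fin n), g * zp = zp * g → g ∈ C := by
    intro g hg
    rw [hC, Subgroup.mem_centralizer_iff]
    intro y hy
    rw [Set.mem_singleton_iff] at hy
    rw [hy]
    exact hg.symm
  have htC : t ∈ C := hmemC t (htQ zp (Subgroup.mem_zpowers zp))
  obtain ⟨φ, hφ⟩ : ∃ φ : ↥C →* ℤˣ, φ = Equiv.Perm.sign.comp C.subtype := ⟨_, rfl⟩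
  obtain ⟨f, hf⟩ : ∃ f : ↥T →* ↥C, ∀ u : ↥T,
      ((f u : ↥C) : Equiv.Perm (Fin n)) = ((u : alternatingGroup (Fin n)) : Equiv.Perm (Fin n)) :=
    ⟨((alternatingGroup (Fin n)).subtype.comp T.subtype).codRestrict C
      (fun u => hmemC _ (hTzp u.1 u.2)), fun u => rfl⟩
  have hfker : ∀ u : ↥T, f u ∈ φ.ker := by
    intro u
    rw [MonoidHom.mem_ker, hφ]
    show Equiv.Perm.sign ((f u : ↥C) : Equiv.Perm (Fin n)) = 1
    rw [hf u]
    exact Equiv.Perm.mem_alternatingGroup.mp (u : alternatingGroup (Fin n)).2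
  have hg : Function.Injective (f.codRestrict φ.ker hfker) := by
    intro a b hab
    have h := congrArg (fun u : ↥φ.ker => ((u : ↥C) : Equiv.Perm (Fin n))) hab
    have h' : ((f a : ↥C) : Equiv.Perm (Fin n)) = ((f b : ↥C) : Equiv.Perm (Fin n)) := h
    rw [hf a, hf b] at h'
    exact Subtype.ext (Subtype.ext h')
  have hd1 : Nat.card ↥T ∣ Nat.card ↥φ.ker := Subgroup.card_dvd_of_injective _ hg
  have hd2 : 2 ∣ φ.ker.index := by
    rw [Subgroup.index_ker]
    have hmem : (-1 : ℤˣ) ∈ φ.range := ⟨⟨t, htC⟩, by rw [hφ]; exact htsign⟩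
    have h := orderOf_dvd_natCard (⟨-1, hmem⟩ : ↥φ.range)
    rw [Subgroup.orderOf_mk] at h
    have ho : orderOf (-1 : ℤˣ) = 2 := orderOf_eq_prime (by norm_num) (by decide)
    rwa [ho] at h
  have hdvd : 2 ^ v ∣ Nat.card ↥C := by
    rw [← Subgroup.card_mul_index φ.ker]
    have hvv : 2 ^ v = 2 ^ (v - 1) * 2 := by
      rw [← pow_succ]
      congr 1
      omega
    rw [hvv, ← hTcard]
    exact Nat.mul_dvd_mul hd1 hd2
  rw [hC, hv] at hdvd
  exact nat3_cycleType n hn zp hzpord hdvd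

end Cfsg.Agent.Helper3
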