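import Mathlib
import Cfsg.Agent.Lead.NilOddNum

set_option autoImplicit false

namespace Cfsg.Agent.Helper3

/-- `v_2(n!) = v_2((n-3)!) + 1` for `n % 4 = 3`. -/
theorem natv1_fact (n : ℕ) (h : n % 4 = 3) :
    n.factorial.factorization 2 = (n - 3).factorial.factorization 2 + 1 := by
  obtain ⟨q, rfl⟩ : ∃ q, n = 4 * q + 3 := ⟨n / 4, by omega⟩
  rw [show 4 * q + 3 - 3 = 4 * q by omega]
  have h1 : (4 * q + 3).factorial.factorization 2 = (4 * q + 2).factorial.factorization 2 :=
    Cfsg.Agent.Lead.no_fact_odd (4 * q + 2) ⟨2 * q + 1, by ring⟩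
  have h3 : (4 * q + 1).factorial.factorization 2 = (4 * q).factorial.factorization 2 :=
    Cfsg.Agent.Lead.no_fact_odd (4 * q) ⟨2 * q, by ring⟩
  have h2 : (4 * q + 2).factorial.factorization 2 =
      (4 * q + 1).factorial.factorization 2 + 1 := by
    have he : (4 * q + 2).factorial = (2 * (2 * q + 1)) * (4 * q + 1).factorial := by
      rw [show 4 * q + 2 = (4 * q + 1) + 1 by ring, Nat.factorial_succ]
      ring_nf
    rw [he, Nat.factorization_mul (by omega) (Nat.factorial_ne_zero _),
      Nat.factorization_mul (by norm_num) (by omega)]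
    have h0 : (2 * q + 1).factorization 2 = 0 :=
      Nat.factorization_eq_zero_of_not_dvd (by omega)
    simp only [Finsupp.coe_add, Pi.add_apply, h0, Nat.Prime.factorization_self Nat.prime_two]
    omega
  omega

theorem nil_prod_odd_le_three (c : ℕ → ℕ)
    (hc : ∀ m, 0 < m → m ≠ 3 → c m ≤ 2 ^ (m.factorial.factorization 2)) (hc3 : c 3 = 3)
    (hc2 : ∀ m, Odd m → m ≠ 1 → m ≠ 3 → m ≠ 5 → m ≠ 9 →
      2 * c m ≤ 2 ^ (m.factorial.factorization 2))
    (l : Multiset ℕ) (hodd : ∀ m ∈ l, Odd m) (h : l.sum % 4 = 3) (h7 : 7 ≤ l.sum) :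
    2 * (l.map c).prod ≤ 3 * 2 ^ ((l.sum - 3).factorial.factorization 2) := by
  by_cases h3 : 3 ∈ l
  · obtain ⟨l', rfl⟩ := Multiset.exists_cons_of_mem h3
    rw [Multiset.sum_cons] at h h7 ⊢
    rw [Multiset.map_cons, Multiset.prod_cons, hc3, show 3 + l'.sum - 3 = l'.sum by omega]
    have hB := Cfsg.Agent.Lead.nil_prod_odd_le c hc hc3 hc2 l'
      (fun m hm => hodd m (Multiset.mem_cons_of_mem hm)) (by omega) (by omega) (by omega)
      (by omega) (by omega)
    calc 2 * (3 * (l'.map c).prod) = 3 * (2 * (l'.map c).prod) := by ring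
      _ ≤ _ := Nat.mul_le_mul_left _ hB
  · have hfact := natv1_fact l.sum h
    suffices hs : 2 * (l.map c).prod ≤ 2 ^ (l.sum.factorial.factorization 2) by
      rw [hfact, pow_succ] at hs
      calc 2 * (l.map c).prod ≤ 2 ^ ((l.sum - 3).factorial.factorization 2) * 2 := hs
        _ ≤ 3 * 2 ^ ((l.sum - 3).factorial.factorization 2) := by
            generalize 2 ^ ((l.sum - 3).factorial.factorization 2) = A
            omega
    have hl0 : l ≠ 0 := by
      intro h0
      rw [h0, Multiset.sum_zero] at h7
      omega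
    obtain ⟨x, hxl⟩ := Multiset.exists_mem_of_ne_zero hl0
    have hx3 : x ≠ 3 := fun h' => h3 (h' ▸ hxl)
    obtain ⟨l', rfl⟩ := Multiset.exists_cons_of_mem hxl
    have hxodd : Odd x := hodd x (Multiset.mem_cons_self x l')
    have hxpos : 0 < x := hxodd.pos
    rw [Multiset.sum_cons] at h h7 ⊢
    rw [Multiset.map_cons, Multiset.prod_cons]
    by_cases hl' : l' = 0
    · subst hl'
      simp only [Multiset.sum_zero, add_zero, Multiset.map_zero, Multiset.prod_zero, mul_one]
        at h h7 ⊢
      exact hc2 x hxodd (by omega) hx3 (by omega) (by omega)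
    · obtain ⟨y, hyl⟩ := Multiset.exists_mem_of_ne_zero hl'
      obtain ⟨l'', rfl⟩ := Multiset.exists_cons_of_mem hyl
      have hyodd : Odd y := hodd y (Multiset.mem_cons_of_mem (Multiset.mem_cons_self y l''))
      have hypos : 0 < y := hyodd.pos
      have hy3 : y ≠ 3 := fun h' =>
        h3 (h' ▸ Multiset.mem_cons_of_mem (Multiset.mem_cons_self y l''))
      have h3l'' : 3 ∉ l'' := fun h' =>
        h3 (Multiset.mem_cons_of_mem (Multiset.mem_cons_of_mem h'))
      rw [Multiset.sum_cons] at h h7 ⊢
      rw [Multiset.map_cons, Multiset.prod_cons]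
      have hcx := hc x hxpos hx3
      have hcy := hc y hypos hy3
      have hv := Cfsg.Agent.Lead.no_carry x y hxodd hyodd
      have hkey : 2 * c x * c y ≤ 2 ^ ((x + y).factorial.factorization 2) := by
        calc 2 * c x * c y
            ≤ 2 * 2 ^ (x.factorial.factorization 2) * 2 ^ (y.factorial.factorization 2) :=
              Nat.mul_le_mul (Nat.mul_le_mul_left _ hcx) hcy
          _ = 2 ^ (x.factorial.factorization 2 + y.factorial.factorization 2 + 1) := by ring
          _ ≤ _ := Nat.pow_le_pow_right (by norm_num) hv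
      have hxyeven : Even (x + y) := hxodd.add_odd hyodd
      have hne : ∀ m, Odd m → m ≠ x + y := by
        intro m hm heq
        rw [heq] at hm
        exact (Nat.not_even_iff_odd.mpr hm) hxyeven
      have hmain := Cfsg.Agent.Lead.nn_main
        (fun m => if m = x + y then 2 * c x * c y else c m)
        (by
          intro m hm hm3
          by_cases hmxy : m = x + y
          · subst hmxy
            rw [if_pos rfl]
            exact hkey
          · rw [if_neg hmxy]
            exact hc m hm hm3)
        (by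
          rw [if_neg (hne 3 ⟨1, rfl⟩)]
          exact hc3)
        ((x + y) ::ₘ l'')
        (by
          intro m hm
          rcases Multiset.mem_cons.mp hm with rfl | hm'
          · omega
          · exact (hodd m (Multiset.mem_cons_of_mem (Multiset.mem_cons_of_mem hm'))).pos)
      have hmap : (l''.map (fun m => if m = x + y then 2 * c x * c y else c m)) = l''.map c := by
        apply Multiset.map_congr rfl
        intro m hm
        exact if_neg (hne m (hodd m (Multiset.mem_cons_of_mem (Multiset.mem_cons_of_mem hm))))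
      have hcount : ((x + y) ::ₘ l'').count 3 = 0 := by
        rw [Multiset.count_eq_zero]
        intro hmem
        rcases Multiset.mem_cons.mp hmem with h' | h'
        · exact hne 3 ⟨1, rfl⟩ h'
        · exact h3l'' h'
      obtain ⟨_, hm2⟩ := hmain
      rw [hcount, pow_zero, one_mul, Nat.mul_zero, Nat.sub_zero, Multiset.map_cons,
        Multiset.prod_cons, Multiset.sum_cons, hmap] at hm2
      rw [if_pos rfl] at hm2
      calc 2 * (c x * (c y * (l''.map c).prod)) = 2 * c x * c y * (l''.map c).prod := by ring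
        _ ≤ 2 ^ ((x + y + l''.sum).factorial.factorization 2) := hm2
        _ = _ := by rw [add_assoc]

end Cfsg.Agent.Helper3
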